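import Cfsg.Agent.H668.XZ.C3

/-!
# S4791 + S4927: arithmetic of the classical rows (helper719)

* `arith_RN` : `e c = p - 1`, `e + 1 ≤ R`, `R + N ≤ x0(S)` with `N ≥ c` (or `N ≥ c - 1` for `c ≤ 2`).
* `count_over` : `f` members of `X0(A)` over each of `R` invariant members of `X0(S)`.
* `row0_of_families` : the rows of the classical groups.
-/

set_option autoImplicit false
set_option linter.unusedSectionVars false

open Cfsg Subgroup Cfsg.Agent.H508.KB Cfsg.Agent.H674.XZ Cfsg.Agent.H668.XZ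
open scoped ComplexConjugate

namespace Cfsg.Agent.H719.XZ

universe u

/-- the arithmetic of the classical rows, `P` abelian -/
theorem arith_RN {p e c R N f ν x : ℕ} (h11 : 11 ≤ p) (hec : e * c = p - 1) (hR : e + 1 ≤ R)
    (hN : c ≤ N ∨ (c = 2 ∧ 1 ≤ N) ∨ c = 1) (hf : 1 ≤ f) (hν : N ≤ f * ν) (hx : f * R + ν ≤ x) :
    ∃ k, k + f ≤ x ∧ 4 * (p - 1) < (k + 2) ^ 2 ∧ 4 * (p - 1) < x ^ 2 := by
  obtain ⟨r, rfl⟩ : ∃ r, R = r + 1 := ⟨R - 1, by omega⟩
  have hx' : f * r + f + ν ≤ x := by rw [Nat.mul_add, mul_one] at hx; exact hx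
  have her : e ≤ r := by omega
  have hfr : e ≤ f * r := her.trans (Nat.le_mul_of_pos_left _ hf)
  refine ⟨f * r + ν, by omega, ?_, ?_⟩
  · rw [← hec]
    rcases hN with h | ⟨rfl, h⟩ | rfl
    · have h1 : e * c ≤ (f * r) * ν := by
        calc e * c ≤ r * (f * ν) := Nat.mul_le_mul her (h.trans hν)
          _ = (f * r) * ν := by ring
      have h2 := four_mul_le_pow_two_add (f * r) ν
      have h3 : (f * r + ν) ^ 2 < (f * r + ν + 2) ^ 2 := Nat.pow_lt_pow_left (by omega) (by norm_num)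
      linarith
    · have hν1 : 1 ≤ ν := by
        rcases Nat.eq_zero_or_pos ν with rfl | h'
        · omega
        · exact h'
      have h1 : (e + 3) ^ 2 ≤ (f * r + ν + 2) ^ 2 := Nat.pow_le_pow_left (by omega) 2
      nlinarith [sq_nonneg ((e : ℤ) - 1)]
    · have h1 : (e + 2) ^ 2 ≤ (f * r + ν + 2) ^ 2 := Nat.pow_le_pow_left (by omega) 2
      nlinarith
  · rw [← hec]
    rcases hN with h | ⟨rfl, h⟩ | rfl
    · have h1 : e * c ≤ (f * r) * ν := by
        calc e * c ≤ r * (f * ν) := Nat.mul_le_mul her (h.trans hν)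
          _ = (f * r) * ν := by ring
      have h2 := four_mul_le_pow_two_add (f * r) ν
      have h3 : (f * r + ν) ^ 2 < x ^ 2 := Nat.pow_lt_pow_left (by omega) (by norm_num)
      linarith
    · have hν1 : 1 ≤ ν := by
        rcases Nat.eq_zero_or_pos ν with rfl | h'
        · omega
        · exact h'
      have h1 : (e + 2) ^ 2 ≤ x ^ 2 := Nat.pow_le_pow_left (by omega) 2
      have he : 5 ≤ e := by omega
      nlinarith
    · have h1 : (e + 1) ^ 2 ≤ x ^ 2 := Nat.pow_le_pow_left (by omega) 2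
      have he : 10 ≤ e := by omega
      nlinarith

/-- `P` not abelian: only the families -/
theorem arith_R {p R f x : ℕ} (hR : 4 * (p - 1) < R ^ 2) (hf : 1 ≤ f) (hx : f * R ≤ x) :
    ∃ k, k + f ≤ x ∧ 4 * (p - 1) < (k + 2) ^ 2 ∧ 4 * (p - 1) < x ^ 2 := by
  have hR1 : 1 ≤ R := by
    rcases Nat.eq_zero_or_pos R with rfl | h
    · simp at hR
    · exact h
  obtain ⟨r, rfl⟩ : ∃ r, R = r + 1 := ⟨R - 1, by omega⟩
  have hx' : f * r + f ≤ x := by rw [Nat.mul_add, mul_one] at hx; exact hx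
  have h2 : r ≤ f * r := Nat.le_mul_of_pos_left _ hf
  refine ⟨f * r, by omega, hR.trans_le (Nat.pow_le_pow_left (by omega) 2), hR.trans_le (Nat.pow_le_pow_left (by omega) 2)⟩

variable {p : ℕ} [hp : Fact p.Prime] {M : Ideal AlgInt}

section count

variable {A : Type u} [Group A] [Finite A] (T : Subgroup A) [T.Normal]

/-- **`f` members of `X0(A)` over each of `R` invariant members of `X0(T)`**: with `ν = kap0 - R`. -/
theorem count_over (hM : IsPModular p M) (hcop : ¬ p ∣ T.index) {R f : ℕ} (θ : Fin R → IrrCharacter T)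
    (hθ : Function.Injective θ) (h0 : ∀ i, Mem0 p M (θ i))
    (hinv : ∀ i (a : A) (s : T), (θ i : T → ℂ) (MulAut.conjNormal a s) = (θ i : T → ℂ) s)
    (hover : ∀ i, ∃ χ : Fin f → IrrCharacter A, Function.Injective χ ∧ ∀ j, Mem0 p M (χ j) ∧ Over T (χ j) (θ i)) :
    ∃ ν, f * R + ν ≤ x0 p M A ∧ x0 p M T ≤ (hull p T).index * ν + R := by
  classical
  have : M.IsPrime := hM.2.1.isPrime
  let : Fintype A := Fintype.ofFinite A
  let : Fintype T := Fintype.ofFinite _
  have hfin3 : Finite (Quotient (orbSetoid0 p M T)) := finite_quot0 T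
  have hfin4 : Finite {χ : IrrCharacter T // Mem0 p M χ} := finite_mem0
  choose χ hχi hχ using hover
  let q : Fin R → Quotient (orbSetoid0 p M T) := fun i => Quotient.mk (orbSetoid0 p M T) ⟨θ i, h0 i⟩
  -- an orbit of an invariant member
  have hsing : ∀ (i : Fin R) (y : {χ : IrrCharacter T // Mem0 p M χ}), (orbSetoid0 p M T) ⟨θ i, h0 i⟩ y →
      y = ⟨θ i, h0 i⟩ := by
    rintro i y ⟨a, ha⟩
    apply Subtype.ext
    apply Subtype.ext
    funext s
    rw [ha s]
    exact hinv i a s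
  have hq : Function.Injective q := by
    intro i j hij
    have h1 := Quotient.exact hij
    have h2 := hsing i _ h1
    exact (hθ (congrArg (fun x : {χ : IrrCharacter T // Mem0 p M χ} => x.1) h2)).symm
  let Q₀ : Finset (Quotient (orbSetoid0 p M T)) := Finset.univ.image q
  have hQ : Q₀.card = R := by
    rw [Finset.card_image_of_injective _ hq, Finset.card_univ, Fintype.card_fin]
  have hcl : ∀ (i : Fin R) (j : Fin f) (θ' : {χ : IrrCharacter T // Mem0 p M χ}), Over T (χ i j) θ'.1 →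
      θ'.1 = θ i := by
    intro i j θ' ho
    obtain ⟨g, hg⟩ := Characters.Clifford.exists_conj_of_constituents T (χ i j).2 (θ i).2 θ'.1.2
      (over_iff.1 (hχ i j).2) (over_iff.1 ho)
    apply Subtype.ext
    funext s
    have h1 := congrFun hg s
    exact h1.trans (hinv i _ s)
  have h1 := count0 T hM hcop (ι := Fin R × Fin f) (fun x => ⟨χ x.1 x.2, (hχ x.1 x.2).1⟩) (by
    rintro ⟨i, j⟩ ⟨i', j'⟩ hij
    have h2 : χ i j = χ i' j' := congrArg (fun x : {χ : IrrCharacter A // Mem0 p M χ} => x.1) hij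
    have h3 : θ i' = θ i := hcl i j ⟨θ i', h0 i'⟩ (by rw [h2]; exact (hχ i' j').2)
    have h4 := hθ h3
    subst h4
    rw [hχi i' h2]) Q₀ (by
    rintro ⟨i, j⟩ θ' ho
    have h2 := hcl i j θ' ho
    refine Finset.mem_image.2 ⟨i, Finset.mem_univ _, ?_⟩
    show Quotient.mk (orbSetoid0 p M T) ⟨θ i, h0 i⟩ = Quotient.mk (orbSetoid0 p M T) θ'
    congr 1
    exact Subtype.ext h2.symm)
  have h2 := H426.KB.card_le_of_classes (orbSetoid0 p M T) (hull p T).index (card_orbit_le0 T hM hcop) Q₀ (by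
    intro y hy
    obtain ⟨i, -, rfl⟩ := Finset.mem_image.1 hy
    exact ⟨⟨θ i, h0 i⟩, rfl, fun y hy => hsing i y hy⟩)
  have h3 : Q₀.card ≤ kap0 p M T := by
    have := Fintype.ofFinite (Quotient (orbSetoid0 p M T))
    unfold kap0
    rw [Nat.card_eq_fintype_card]
    exact Finset.card_le_univ _
  rw [hQ] at h1 h2 h3
  refine ⟨kap0 p M T - R, ?_, h2⟩
  rw [Nat.card_prod, Nat.card_fin, Nat.card_fin] at h1
  have h4 : R * f = f * R := Nat.mul_comm _ _
  omega

end count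

/-- the data of a classical row for `(A, T)`: `R` invariant members of `X0(T)`, over each of them `|A : hull|` members of
`X0(A)` -/
def Fam (p : ℕ) (M : Ideal AlgInt) {A : Type u} [Group A] (T : Subgroup A) [T.Normal] (R : ℕ) : Prop :=
  ∃ θ : Fin R → IrrCharacter T, Function.Injective θ ∧ (∀ i, Mem0 p M (θ i)) ∧
    (∀ i (a : A) (s : T), (θ i : T → ℂ) (MulAut.conjNormal a s) = (θ i : T → ℂ) s) ∧
    ∀ i, ∃ χ : Fin (hull p T).index → IrrCharacter A, Function.Injective χ ∧ ∀ j, Mem0 p M (χ j) ∧ Over T (χ j) (θ i)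

/-- **the rows of the classical groups** -/
theorem row0_of_families (h11 : 11 ≤ p) (hM : IsPModular p M) {S : Type u} [Group S] [Finite S] (hpS : p ∣ Nat.card S)
    (hab : AbOut p S)
    (h : ∀ (A : Type u) [Group A] [Finite A] (T : Subgroup A) [T.Normal], (S ≃* ↥T) →
      centralizer (T : Set A) = ⊥ → ¬ p ∣ T.index →
      ∃ R, Fam p M T R ∧ (4 * (p - 1) < R ^ 2 ∨ ∃ e c N, e * c = p - 1 ∧ e + 1 ≤ R ∧
        (c ≤ N ∨ (c = 2 ∧ 1 ≤ N) ∨ c = 1) ∧ R + N ≤ x0 p M S)) : Row0 p M S := by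
  refine row0_of hM hpS fun A _ _ T _ e hcen hcop => ?_
  have hcomm := comm_mem_hull T e hab hcen hcop
  obtain ⟨R, ⟨θ, h1, h2, h3, h4⟩, h5⟩ := h A T e hcen hcop
  obtain ⟨ν, h6, h7⟩ := count_over T hM hcop θ h1 h2 h3 h4
  have h10 : 1 ≤ (hull p T).index := Nat.pos_of_ne_zero index_ne_zero_of_finite
  rw [ker_eq_index T hM hcop hcomm]
  rcases h5 with h5 | ⟨e', c, N, h8, h9, h11', h12⟩
  · exact arith_R h5 h10 (by omega)
  · rw [x0_congr e] at h12
    exact arith_RN h11 h8 h9 h11' h10 (by omega) h6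

/-- the form of the output of the Galois orbits: `h = (c + 1) / 2` forms of degree `p - 1 - e` -/
theorem num_of_forms {p e c R n : ℕ} (hec : e * c = p - 1) (h11 : 11 ≤ p) (h : R + (c + 1) / 2 * c ≤ n + (c + 1) / 2) :
    ∃ N, (c ≤ N ∨ (c = 2 ∧ 1 ≤ N) ∨ c = 1) ∧ R + N ≤ n := by
  have hc : 1 ≤ c := by
    rcases Nat.eq_zero_or_pos c with rfl | h'
    · omega
    · exact h'
  rcases Nat.lt_or_ge c 3 with h3 | h3
  · have : c = 1 ∨ c = 2 := by omega
    rcases this with rfl | rfl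
    · exact ⟨0, Or.inr (Or.inr rfl), by omega⟩
    · exact ⟨1, Or.inr (Or.inl ⟨rfl, le_rfl⟩), by omega⟩
  · refine ⟨c, Or.inl le_rfl, ?_⟩
    obtain ⟨k, hk⟩ : ∃ k, (c + 1) / 2 = k + 2 := ⟨(c + 1) / 2 - 2, by omega⟩
    rw [hk] at h
    have h4 : (k + 2) * c = k * c + 2 * c := by ring
    have h5 : k ≤ k * c := Nat.le_mul_of_pos_right _ hc
    omega

end Cfsg.Agent.H719.XZ

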