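import Cfsg.Agent.H107.AutU.Main
import Cfsg.Agent.H668.XZ.C3
import Cfsg.Agent.LieRecognition.FieldSemilinear

/-!
# S4791 + S4927: `A / hull` is cyclic (helper719)

* `CycOut p S` : `Aut(S) / Inn(S) C(P)` is cyclic (for the groups of automorphisms of index prime to `p` over `Inn(S)`);
* `cycOut_of` : criterion;
* `exists_gen` : `A / hull p T` is cyclic;
* `cycOut_psu` : the unitary groups.
-/

set_option autoImplicit false
set_option linter.unusedSectionVars false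

open Cfsg Subgroup Cfsg.Agent.H508.KB

namespace Cfsg.Agent.H719.XZ

universe u v

/-- `Aut(S) / Inn(S) C(P)` is cyclic -/
def CycOut (p : ℕ) (S : Type u) [Group S] : Prop :=
  ∀ (P : Sylow p S) (A : Subgroup (MulAut S)), (MulAut.conj : S →* MulAut S).range ≤ A →
    ¬ p ∣ (MulAut.conj : S →* MulAut S).range.relIndex A →
    ∃ γ ∈ A, ∀ α ∈ A, ∃ (k : ℤ) (s : S), ∀ x ∈ (P : Subgroup S), ((γ ^ k)⁻¹ * α) x = s * x * s⁻¹

theorem cycOut_of {p : ℕ} {S : Type u} [Group S] [Finite S] {C : Type v} [Group C] [IsCyclic C] (f : MulAut S →* C)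
    (h : ∀ (P : Sylow p S), ∀ δ ∈ f.ker, ∀ m : ℕ, ¬ p ∣ m → δ ^ m ∈ (MulAut.conj : S →* MulAut S).range →
      ∃ s : S, ∀ x ∈ (P : Subgroup S), δ x = s * x * s⁻¹) : CycOut p S := by
  intro P A hA hAp
  have hc : IsCyclic (A.map f) := inferInstance
  obtain ⟨⟨g, hg⟩, hgen⟩ := hc.exists_generator
  obtain ⟨γ, hγ, rfl⟩ := Subgroup.mem_map.1 hg
  refine ⟨γ, hγ, fun α hα => ?_⟩
  obtain ⟨k, hk⟩ := Subgroup.mem_zpowers_iff.1 (hgen ⟨f α, Subgroup.mem_map.2 ⟨α, hα, rfl⟩⟩)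
  have hk' : f γ ^ k = f α := congrArg Subtype.val hk
  have hmem : (γ ^ k)⁻¹ * α ∈ A := A.mul_mem (A.inv_mem (A.zpow_mem hγ k)) hα
  have hker : (γ ^ k)⁻¹ * α ∈ f.ker := by
    rw [MonoidHom.mem_ker, map_mul, map_inv, map_zpow, hk', inv_mul_cancel]
  have hn : ((MulAut.conj : S →* MulAut S).range).Normal := H191.KB.Crit.conj_range_normal
  have h1 := Subgroup.pow_index_mem (((MulAut.conj : S →* MulAut S).range).subgroupOf A) ⟨_, hmem⟩
  obtain ⟨s, hs⟩ := h P _ hker ((MulAut.conj : S →* MulAut S).range.relIndex A) hAp h1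
  exact ⟨k, s, hs⟩

theorem cycOut_congr {p : ℕ} [Fact p.Prime] {S : Type u} {S' : Type v} [Group S] [Finite S] [Group S'] (e : S ≃* S')
    (h : CycOut p S') : CycOut p S := by
  intro P A hA hAp
  have hfin : Finite S' := Finite.of_equiv S e.toEquiv
  obtain ⟨P', hP'⟩ : ∃ P' : Sylow p S', (P' : Subgroup S') = (P : Subgroup S).map (e : S →* S') :=
    ⟨P.mapSurjective (f := (e : S →* S')) e.surjective, rfl⟩
  let c : MulAut S ≃* MulAut S' := MulAut.congr e
  have hc : ∀ (γ : MulAut S) (x : S), c γ (e x) = e (γ x) := by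
    intro γ x
    change e (γ (e.symm (e x))) = _
    rw [e.symm_apply_apply]
  have hrange : (MulAut.conj : S' →* MulAut S').range = (MulAut.conj : S →* MulAut S).range.map (c : MulAut S →* MulAut S') := by
    ext γ
    constructor
    · rintro ⟨s', rfl⟩
      obtain ⟨s, rfl⟩ := e.surjective s'
      refine ⟨MulAut.conj s, ⟨s, rfl⟩, ?_⟩
      apply MulEquiv.ext
      intro y
      obtain ⟨x, rfl⟩ := e.surjective y
      change c (MulAut.conj s) (e x) = _
      rw [hc, MulAut.conj_apply, MulAut.conj_apply, map_mul, map_mul, map_inv]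
    · rintro ⟨_, ⟨s, rfl⟩, rfl⟩
      refine ⟨e s, ?_⟩
      apply MulEquiv.ext
      intro y
      obtain ⟨x, rfl⟩ := e.surjective y
      change _ = c (MulAut.conj s) (e x)
      rw [hc, MulAut.conj_apply, MulAut.conj_apply, map_mul, map_mul, map_inv]
  obtain ⟨γ', ⟨γ, hγ, rfl⟩, hgen⟩ := h P' (A.map (c : MulAut S →* MulAut S')) (by rw [hrange]; exact Subgroup.map_mono hA)
    (by
      rw [hrange, Subgroup.relIndex_map_map_of_injective _ _ c.injective]
      exact hAp)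
  refine ⟨γ, hγ, fun α hα => ?_⟩
  obtain ⟨k, s', hs'⟩ := hgen (c α) ⟨α, hα, rfl⟩
  refine ⟨k, e.symm s', fun x hx => ?_⟩
  have h1 := hs' (e x) (by rw [hP']; exact ⟨x, hx, rfl⟩)
  have h2 : ((c : MulAut S →* MulAut S') γ ^ k)⁻¹ * c α = c ((γ ^ k)⁻¹ * α) := by
    rw [map_mul, map_inv, map_zpow]
    rfl
  rw [h2, hc] at h1
  apply e.injective
  rw [h1, map_mul, map_mul, map_inv, e.apply_symm_apply]

section AB

variable {p : ℕ} [hp : Fact p.Prime] {A : Type u} [Group A] [Finite A] (T : Subgroup A) [T.Normal] {S : Type u} [Group S]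
  [Finite S] (e : S ≃* T)

include e in
/-- `A / hull` is cyclic -/
theorem exists_gen (hcyc : CycOut p S) (hcen : centralizer (T : Set A) = ⊥) (hcop : ¬ p ∣ T.index) :
    ∃ g : A, ∀ a : A, ∃ k : ℤ, (g ^ k)⁻¹ * a ∈ hull p T := by
  obtain ⟨P⟩ : Nonempty (Sylow p S) := inferInstance
  obtain ⟨γ, ⟨g, rfl⟩, hgen⟩ := hcyc P (H191.KB.Crit.toAut T e).range (H191.KB.Crit.conj_range_le T e)
    (by rwa [H191.KB.Crit.relIndex_range T e hcen])
  refine ⟨g, fun a => ?_⟩
  obtain ⟨k, s, hs⟩ := hgen (H191.KB.Crit.toAut T e a) ⟨a, rfl⟩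
  refine ⟨k, ?_⟩
  rw [← map_zpow, ← map_inv, ← map_mul] at hs
  have hsur : Function.Surjective (e.toMonoidHom : S →* T) := e.surjective
  have h1 : (e s : A)⁻¹ * ((g ^ k)⁻¹ * a) ∈
      centralizer (((P.mapSurjective hsur : Subgroup T).map T.subtype : Subgroup A) : Set A) := by
    rw [mem_centralizer_iff]
    rintro _ ⟨_, ⟨x, hx, rfl⟩, rfl⟩
    have h2 := (H191.KB.Crit.toAut_eq_iff T e _ _ _).1 (hs x hx)
    rw [map_mul, map_mul, map_inv] at h2
    change _ = (e s : A) * e x * (e s : A)⁻¹ at h2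
    change (e x : A) * ((e s : A)⁻¹ * ((g ^ k)⁻¹ * a)) = (e s : A)⁻¹ * ((g ^ k)⁻¹ * a) * (e x : A)
    generalize (g ^ k)⁻¹ * a = g' at h2 ⊢
    rw [mul_inv_eq_iff_eq_mul] at h2
    rw [mul_assoc, h2]
    group
  have h3 : (g ^ k)⁻¹ * a = (e s : A) * ((e s : A)⁻¹ * ((g ^ k)⁻¹ * a)) := by
    rw [mul_inv_cancel_left]
  rw [h3]
  exact mul_mem (H191.KB.Crit.le_hull T p (e s).2) (H191.KB.Crit.centralizer_le_hull T _ h1)

include e in
/-- `A / hull` is cyclic -/
theorem isCyclic_quot (hcyc : CycOut p S) (hcen : centralizer (T : Set A) = ⊥) (hcop : ¬ p ∣ T.index)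
    [(hull p T).Normal] : IsCyclic (A ⧸ hull p T) := by
  obtain ⟨g, hg⟩ := exists_gen T e hcyc hcen hcop
  refine ⟨(g : A ⧸ hull p T), fun x => ?_⟩
  obtain ⟨a, rfl⟩ := QuotientGroup.mk_surjective x
  obtain ⟨k, hk⟩ := hg a
  refine Subgroup.mem_zpowers_iff.2 ⟨k, ?_⟩
  rw [← QuotientGroup.mk_zpow]
  exact QuotientGroup.eq.2 hk

end AB

/-! ### the unitary groups -/

section psu

open Matrix Cfsg.Agent.LieClassical.HermBasic Cfsg.Agent.LieClassical.HermSiegel
  Cfsg.Agent.ClassicalGeometry.PSUAutCount Cfsg.Agent.Schreier.PSU Cfsg.Agent.H107.AutU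
open Cfsg.Agent.ClassicalGeometry.UnitAutBasic (pr pr_surjective)

/-- `CycOut` for `PSU_n(q)` -/
theorem cycOut_psu {p : ℕ} [hp : Fact p.Prime] (hp2 : p ≠ 2) {F : Type*} [Field F] [Fintype F] {q n : ℕ}
    (hF : Fintype.card F = q ^ 2) (hn : 3 ≤ n) (h32 : ¬ (n = 3 ∧ q = 2)) (hpF : (p : F) ≠ 0) :
    CycOut p (PSU n F q) := by
  classical
  have hfin : Finite (SU n F q) := Finite.of_injective (mat : SU n F q → _) mat_injective
  have hfin' : Finite (PSU n F q) := Finite.of_surjective (pr n F q) pr_surjective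
  have hN : ((f₁ (F := F) (q := q) (n := n)).range).Normal := by
    have := H202.Psu.inndiag_normal hF hn h32
    rwa [H202.Psu.inndiag_eq] at this
  have h0 : ∀ A : GU n F q, ((f₁ A : MulAut (PSU n F q)) : MulAut (PSU n F q) ⧸ (f₁ (F := F) (q := q) (n := n)).range) = 1 :=
    fun A => (QuotientGroup.eq_one_iff _).2 ⟨A, rfl⟩
  have hcyc : IsCyclic (MulAut (PSU n F q) ⧸ (f₁ (F := F) (q := q) (n := n)).range) := by
    have hc : IsCyclic (F ≃+* F) := LieRecognition.FieldSemilinear.isCyclic_ringAut F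
    refine isCyclic_of_surjective ((QuotientGroup.mk' (f₁ (F := F) (q := q) (n := n)).range).comp f₂) ?_
    intro x
    obtain ⟨α, rfl⟩ := QuotientGroup.mk_surjective x
    obtain ⟨A, ρ, rfl⟩ := ClassicalGeometry.PSUAutMain.exists_toAut hF hn h32 α
    refine ⟨ρ, ?_⟩
    rw [toAut_eq, QuotientGroup.mk_mul, h0, one_mul]
    rfl
  refine cycOut_of (QuotientGroup.mk' (f₁ (F := F) (q := q) (n := n)).range) ?_
  rintro P δ hδ m hm ⟨x, hx⟩
  rw [QuotientGroup.ker_mk'] at hδ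
  obtain ⟨B, rfl⟩ := hδ
  obtain ⟨g, rfl⟩ := pr_surjective x
  obtain ⟨Q, hQ, hQP⟩ := H845.KB.exists_lift_sylow (pr n F q) pr_surjective P
  -- `B ^ m = c g`
  obtain ⟨G0, hG0, hG⟩ := ClassicalGeometry.HermOrtho.exists_GU_of_isometry hF (M := mat g)
    (fun u v => herm_act g u v)
  let G : GU n F q := ⟨G0, hG0⟩
  have hGm : gm G = mat g := hG
  have h1 : toAut G 1 = toAut (B ^ m) 1 := by
    have e1 := f₁_eq_conj G g hGm
    have e2 : (f₁ (B ^ m) : MulAut (PSU n F q)) = MulAut.conj (pr n F q g) := by rw [map_pow]; exact hx.symm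
    exact e1.trans e2.symm
  obtain ⟨-, c, hc, hcm⟩ := eq_of_toAut_eq hF hn h1
  have hc0 : c ≠ 0 := by
    rintro rfl
    rw [zero_mul] at hc
    exact zero_ne_one hc
  have h2 : (dt n F q B) ^ m = (Units.mk0 c hc0) ^ n := by
    rw [← map_pow]
    apply Units.ext
    rw [coe_dt, hcm, hGm, Matrix.det_smul, Fintype.card_fin, Units.val_pow_eq_pow_val, Units.val_mk0]
    have h3 : (mat g).det = 1 := (g : SpecialLinearGroup (Fin n) F).det_coe
    rw [h3, mul_one]
  obtain ⟨a, C, hC1, hC2⟩ := exists_cent hp2 hF (by omega) hpF hQ (dt_norm hF B)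
  -- Bezout
  have hcop : IsCoprime ((p ^ a : ℕ) : ℤ) (m : ℤ) := by
    rw [Nat.isCoprime_iff_coprime]
    exact Nat.Coprime.pow_left _ ((Nat.Prime.coprime_iff_not_dvd hp.out).2 hm)
  obtain ⟨u, v, huv⟩ := hcop
  have hcv : c ^ v * (c ^ v) ^ q = 1 := by
    rw [← zpow_natCast (c ^ v), ← _root_.zpow_mul, mul_comm v, _root_.zpow_mul, ← mul_zpow, zpow_natCast, hc, _root_.one_zpow]
  let D : GU n F q := sc n ⟨c ^ v, hcv⟩ * C ^ u
  have hD : dt n F q D = dt n F q B := by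
    have e1 : dt n F q (sc n ⟨c ^ v, hcv⟩) = (Units.mk0 c hc0 ^ v) ^ n := by
      apply Units.ext
      rw [dt_sc, Units.val_pow_eq_pow_val, Units.val_zpow_eq_zpow_val, Units.val_mk0]
    have e2 : (Units.mk0 c hc0 ^ v) ^ n = dt n F q B ^ (v * (m : ℤ)) := by
      rw [← zpow_natCast, ← _root_.zpow_mul, mul_comm v (n : ℤ), _root_.zpow_mul, zpow_natCast, ← h2, ← zpow_natCast, ← _root_.zpow_mul,
        mul_comm]
    rw [map_mul, map_zpow, hC2, e1, e2, ← zpow_natCast, ← _root_.zpow_mul, ← _root_.zpow_add, mul_comm ((p ^ a : ℕ) : ℤ) u,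
      add_comm, huv, zpow_one]
  obtain ⟨s, hs⟩ := exists_conj_of_dt (B * D⁻¹) (by rw [map_mul, map_inv, hD, mul_inv_cancel])
  refine ⟨pr n F q s, fun x hx => ?_⟩
  obtain ⟨t, ht, rfl⟩ := hQP x hx
  have h3 : (f₁ D : MulAut (PSU n F q)) (pr n F q t) = pr n F q t := by
    have e1 : (f₁ D : MulAut (PSU n F q)) = (f₁ C) ^ u := by
      rw [f₁_sc_mul, map_zpow]
    have e2 : (f₁ C : MulAut (PSU n F q)) ∈ MulAction.stabilizer (MulAut (PSU n F q)) (pr n F q t) := f₁_fix (hC1 t ht)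
    rw [e1]
    exact Subgroup.zpow_mem _ e2 u
  have h4 : (f₁ B : MulAut (PSU n F q)) = MulAut.conj (pr n F q s) * f₁ D := by
    rw [← hs, ← map_mul, inv_mul_cancel_right]
  rw [h4, MulAut.mul_apply, h3, MulAut.conj_apply]

theorem cyc_psu {p : ℕ} [hp : Fact p.Prime] {S : Type u} [Group S] {r : ℕ} [hr : Fact r.Prime] (hrp : r ≠ p) (h5 : 5 ≤ p)
    (h : IsPSUChar r S) : CycOut p S := by
  obtain ⟨F, iF, iF', iC, n, q, hF, hn, h32, ⟨e⟩⟩ := h
  have hfin : Finite (SU n F q) := Finite.of_injective (mat : SU n F q → _) mat_injective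
  have hfin' : Finite (PSU n F q) := Finite.of_surjective (pr n F q) pr_surjective
  have hfinS : Finite S := Finite.of_equiv _ e.symm.toEquiv
  refine cycOut_congr e (cycOut_psu (by omega) hF hn h32 ?_)
  intro h0
  rw [CharP.cast_eq_zero_iff F r p] at h0
  exact hrp ((Nat.prime_dvd_prime_iff_eq hr.out hp.out).1 h0)

end psu

end Cfsg.Agent.H719.XZ
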