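import Cfsg.Agent.H674.XZ.CoreC
import Cfsg.Agent.H668.XZ.Prod
import Cfsg.Agent.Nodes.RGDLib

/-!
# Transport of the good nodes along an isomorphism (helper719, for S4791 + S4927)

`e : G ≃* H` in different universes.

* `FV.comp` ; `fixedPointCharacter_map` ; `betaPJ_map` ; `gdC_map`.
-/

set_option autoImplicit false
set_option linter.unusedSectionVars false

open Cfsg

namespace Cfsg.Agent.H719.XZ

open Cfsg.Agent.H674.XZ Cfsg.Agent.Characters.Core Cfsg.Agent.Blocks.Local

universe u v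

section FV

variable {p : ℕ} {M : Ideal AlgInt} {G : Type u} {H : Type v} [Group G] [Group H] [Finite G] [Finite H] (e : G ≃* H)

include e in
/-- the exponents -/
theorem exists_ex (w : (ZMod (Nat.card G))ˣ) : ∃ w' : (ZMod (Nat.card H))ˣ, ex w' ≡ ex w [MOD Nat.card H] := by
  have hc : Nat.card G = Nat.card H := Nat.card_congr e.toEquiv
  have h1 : (ex w).Coprime (Nat.card H) := hc ▸ ex_coprime w
  refine ⟨ZMod.unitOfCoprime (ex w) h1, ?_⟩
  rw [← ZMod.natCast_eq_natCast_iff, ex_cast]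
  rfl

include e in
theorem dd_congr : dd p G = dd p H := by
  have hc : Nat.card G = Nat.card H := Nat.card_congr e.toEquiv
  unfold dd mp
  rw [hc]

theorem ip_comp (ψ χ : H → ℂ) : ip (fun g => ψ (e g)) (fun g => χ (e g)) = ip ψ χ := by
  have := Fintype.ofFinite G
  have := Fintype.ofFinite H
  rw [ip_eq, ip_eq, classInner_def, classInner_def, Nat.card_congr e.toEquiv]
  congr 1
  exact Fintype.sum_equiv e.toEquiv _ _ fun g => rfl

/-- the transport of the irreducible characters -/
noncomputable def irrE : IrrCharacter G ≃ IrrCharacter H where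
  toFun χ := ⟨fun g => (χ : G → ℂ) (e.symm g), isIrr_comp e.symm.toMonoidHom e.symm.surjective χ.2⟩
  invFun χ := ⟨fun g => (χ : H → ℂ) (e g), isIrr_comp e.toMonoidHom e.surjective χ.2⟩
  left_inv χ := by
    apply Subtype.ext
    funext g
    change (χ : G → ℂ) (e.symm (e g)) = (χ : G → ℂ) g
    rw [e.symm_apply_apply]
  right_inv χ := by
    apply Subtype.ext
    funext g
    change (χ : H → ℂ) (e (e.symm g)) = (χ : H → ℂ) g
    rw [e.apply_symm_apply]

theorem mem_irrE (χ : IrrCharacter G) : irrE e χ ∈ principalBlock M H ↔ χ ∈ principalBlock M G := by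
  constructor
  · intro h
    have h1 := Cfsg.Agent.H819.KB.Prod.mem_comp e h
    have h2 : (⟨fun g => (irrE e χ : H → ℂ) (e g), isIrr_comp e.toMonoidHom e.surjective (irrE e χ).2⟩ : IrrCharacter G) = χ :=
      (irrE e).symm_apply_apply χ
    exact h2 ▸ h1
  · intro h
    exact Cfsg.Agent.H819.KB.Prod.mem_comp e.symm h

theorem charDegree_irrE (χ : IrrCharacter G) : charDegree (irrE e χ : H → ℂ) = charDegree (χ : G → ℂ) := by
  change ⌊((χ : G → ℂ) (e.symm 1)).re⌋₊ = ⌊((χ : G → ℂ) 1).re⌋₊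
  rw [map_one]

/-- **Transport of `F(ψ) = c`.** -/
theorem FV_comp {ψ : H → ℂ} {c : ℤ} (h : FV p M ψ c) : FV p M (fun g => ψ (e g)) c := by
  classical
  refine ⟨fun w hw g => ?_, ?_⟩
  · obtain ⟨w', hw'⟩ := exists_ex e w
    have h1 : w' ∈ JJ p H := by
      rw [mem_JJ] at hw ⊢
      exact (hw'.of_dvd (dd_dvd p H)).trans (dd_congr (p := p) e ▸ hw)
    have h2 := h.inv w' h1 (e g)
    rw [pow_congr_card _ hw'] at h2
    change ψ (e (g ^ ex w)) = ψ (e g)
    rw [map_pow]
    exact h2
  · obtain ⟨m, hm, hb⟩ := h.int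
    refine ⟨fun χ => m (irrE e χ), fun χ => ?_, ?_⟩
    · rw [← hm, ← ip_comp e]
      congr 1
      funext g
      change (χ : G → ℂ) g = (χ : G → ℂ) (e.symm (e g))
      rw [e.symm_apply_apply]
    · have hb' : bsum M (fun χ => m (irrE e χ)) = bsum M m := ?_
      · rw [hb']
        exact hb
      have := finite_irr (G := G)
      have := finite_irr (G := H)
      unfold bsum
      let _ := Fintype.ofFinite (IrrCharacter G)
      let _ := Fintype.ofFinite (IrrCharacter H)
      refine Fintype.sum_equiv (irrE e) _ _ fun χ => ?_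
      simp only [mem_irrE, charDegree_irrE]

end FV

section map

variable {G : Type u} {H : Type v} [Group G] [Group H] (e : G ≃* H)

/-- the quotients -/
def quoE (K : Subgroup G) : G ⧸ K ≃ H ⧸ K.map e.toMonoidHom :=
  Quotient.congr e.toEquiv fun a b => by
    change (QuotientGroup.leftRel K) a b ↔ (QuotientGroup.leftRel (K.map e.toMonoidHom)) (e a) (e b)
    rw [QuotientGroup.leftRel_apply, QuotientGroup.leftRel_apply, ← map_inv, ← map_mul, Subgroup.mem_map]
    constructor
    · intro h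
      exact ⟨_, h, rfl⟩
    · rintro ⟨x, hx, hx'⟩
      exact e.injective hx' ▸ hx

theorem quoE_smul (K : Subgroup G) (g : G) (x : G ⧸ K) : quoE e K (g • x) = e g • quoE e K x := by
  obtain ⟨a, rfl⟩ := QuotientGroup.mk_surjective x
  change (QuotientGroup.mk (e (g * a)) : H ⧸ K.map e.toMonoidHom) = QuotientGroup.mk (e g * e a)
  rw [map_mul]

theorem fixedPointCharacter_map (K : Subgroup G) (g : G) :
    fixedPointCharacter (K.map e.toMonoidHom) (e g) = fixedPointCharacter K g := by
  unfold fixedPointCharacter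
  congr 1
  refine (Nat.card_congr ((quoE e K).subtypeEquiv fun x => ?_)).symm
  change g • x = x ↔ e g • quoE e K x = quoE e K x
  rw [← quoE_smul]
  exact (quoE e K).injective.eq_iff.symm

open CoxeterSystem Cfsg.Agent.ChevalleyStructure.CoxeterGeom Cfsg.Agent.Tits.Roots
  Cfsg.Agent.Nodes.Reps Cfsg.Agent.Nodes.BNOf Cfsg.Agent.Nodes.StabComb
  Cfsg.Agent.Nodes.Bruhat Cfsg.Agent.Nodes.OppDec Cfsg.Agent.Nodes.LeviDec Cfsg.Agent.H796.BR

variable {I W : Type*} [Fintype I] [DecidableEq I] [Group W] {Mx : CoxeterMatrix I}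
  {cs : CoxeterSystem Mx W} {A : I → I → ℤ} {h : IsCartan Mx A} {T : Subgroup G} {X : (I → ℤ) → Subgroup G}

theorem Sup_map' (f : G →* H) (S : Set (I → ℤ)) : RGD.Sup (fun x => (X x).map f) S = (RGD.Sup X S).map f := by
  unfold RGD.Sup
  rw [Subgroup.map_iSup]

theorem LJ_map' (f : G →* H) (J : Set I) : LJ cs h (T.map f) (fun x => (X x).map f) J = (LJ cs h T X J).map f := by
  unfold LJ
  rw [Sup_map', Subgroup.map_sup]

theorem PJ_map' (f : G →* H) (J : Set I) : PJ cs h (T.map f) (fun x => (X x).map f) J = (PJ cs h T X J).map f := by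
  unfold PJ VJ
  rw [Sup_map', LJ_map', Subgroup.map_sup]

theorem betaPJ_map (S : Finset I) (g : G) :
    betaPJ cs h (T.map e.toMonoidHom) (fun x => (X x).map e.toMonoidHom) S (e g) = betaPJ cs h T X S g := by
  unfold betaPJ QPJ
  refine Finset.sum_congr rfl fun L _ => ?_
  rw [PJ_map', fixedPointCharacter_map]

end map

section good

open CoxeterSystem Cfsg.Agent.ChevalleyStructure.CoxeterGeom Cfsg.Agent.Tits.Roots
  Cfsg.Agent.Nodes.Reps Cfsg.Agent.Nodes.BNOf Cfsg.Agent.Nodes.StabComb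
  Cfsg.Agent.Nodes.Bruhat Cfsg.Agent.Nodes.OppDec Cfsg.Agent.Nodes.LeviDec Cfsg.Agent.H796.BR

variable {m : ℕ} {W : Type*} [Group W] {G : Type u} {H : Type v} [Group G] [Group H] [Finite G] [Finite H]
  {cs : CoxeterSystem (CoxeterMatrix.B m) W} {A : Fin m → Fin m → ℤ} {h : IsCartan (CoxeterMatrix.B m) A} {p : ℕ}
  {T : Subgroup G} {X : (Fin m → ℤ) → Subgroup G} {M : Ideal AlgInt}

/-- **Transport of the good nodes.** -/
theorem gdC_map (e : G ≃* H) {a : ℕ} (hg : GdC p M cs h T X a) :
    GdC p M cs h (T.map e.toMonoidHom) (fun x => (X x).map e.toMonoidHom) a := by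
  obtain ⟨c, h1, h2⟩ := hg
  refine ⟨c, ?_, h2⟩
  have h3 := FV_comp e.symm h1
  have h4 : (fun g => betaPJ cs h T X (H967.XZ.ge a) (e.symm g)) =
      betaPJ cs h (T.map e.toMonoidHom) (fun x => (X x).map e.toMonoidHom) (H967.XZ.ge a) := by
    funext g
    obtain ⟨x, rfl⟩ := e.surjective g
    rw [betaPJ_map, e.symm_apply_apply]
  rwa [h4] at h3

/-- an isomorphism transports a root group datum -/
theorem rgd_mapE [Finite W] {r : ℕ} {n : Fin m → G} (e : G ≃* H) (R : RGD cs h r T n X) :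
    RGD cs h r (T.map e.toMonoidHom) (fun i => e (n i)) (fun x => (X x).map e.toMonoidHom) :=
  Cfsg.Agent.Nodes.RGDLib.rgd_map_of_injective R e.toMonoidHom e.injective

theorem sup_mapE (e : G ≃* H) (hG1 : RGD.Sup X {x | IsRoot cs h x} = ⊤) :
    RGD.Sup (fun x => (X x).map e.toMonoidHom) {x | IsRoot cs h x} = ⊤ := by
  rw [Sup_map', hG1, ← MonoidHom.range_eq_map]
  exact MonoidHom.range_eq_top.2 e.surjective

end good

end Cfsg.Agent.H719.XZ
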