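import Cfsg.Agent.H719.XZ.OnePSU
import Cfsg.Agent.S0243

/-!
# `PSL_n(q)`, `p ∣ q - 1`, `3 ≤ n < p` (helper719, for S4791 + S4927)
-/

set_option autoImplicit false
set_option linter.unusedSectionVars false

namespace Cfsg.Agent.H719.XZ

open Cfsg
open Cfsg.Agent.H674.XZ

universe u

theorem prod_gl' {q : ℕ} (n : ℕ) :
    ∏ i : Fin n, (q ^ n - q ^ (i : ℕ)) = q ^ (n * (n - 1) / 2) * ∏ i ∈ Finset.range n, (q ^ (i + 1) - 1) := by
  rw [Fin.prod_univ_eq_prod_range (fun i => q ^ n - q ^ i) n]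
  have h1 : ∀ i ∈ Finset.range n, q ^ n - q ^ i = q ^ i * (q ^ (n - i) - 1) := by
    intro i hi
    rw [Finset.mem_range] at hi
    rw [Nat.mul_sub, ← pow_add, Nat.add_sub_cancel' hi.le, mul_one]
  rw [Finset.prod_congr rfl h1, Finset.prod_mul_distrib, Finset.prod_pow_eq_pow_sum, ← Finset.sum_range_id_mul_two]
  congr 1
  · rw [Nat.mul_div_cancel _ (by norm_num)]
  · rw [← Finset.prod_range_reflect]
    refine Finset.prod_congr rfl fun i hi => ?_
    rw [Finset.mem_range] at hi
    congr 2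
    omega

variable {p : ℕ} [hp : Fact p.Prime] {M : Ideal AlgInt}

/-- the `p`-part of the order of `PSL_n(q)` -/
theorem fac_psl (hp2 : p ≠ 2) {F : Type*} [Field F] [Fintype F] {n q d : ℕ} (hF : Fintype.card F = q) (hpq : ¬ p ∣ q)
    (hn : 2 ≤ n) (hd : orderOf (q : ZMod p) = d) :
    (Nat.card (Matrix.ProjectiveSpecialLinearGroup (Fin n) F)).factorization p + (Nat.gcd n (q - 1)).factorization p +
      (q - 1).factorization p = (n / d) * H749.vp p ((q : ℤ) ^ d - 1) + (n / d).factorial.factorization p := by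
  have hq : 2 ≤ q := hF ▸ Fintype.one_lt_card
  have h0 := S0243.result hF n hn
  rw [prod_gl'] at h0
  have hx : ∀ i : ℕ, i ≠ 0 → ((q : ℤ)) ^ i ≠ 1 := by
    intro i hi h
    have h1 : q ^ i = 1 := by exact_mod_cast h
    have : 1 < q ^ i := Nat.one_lt_pow hi (by omega)
    omega
  have hne : ∏ i ∈ Finset.range n, (q ^ (i + 1) - 1) ≠ 0 := by
    refine Finset.prod_ne_zero_iff.2 fun i _ => ?_
    have : 1 < q ^ (i + 1) := Nat.one_lt_pow (by omega) (by omega)
    omega
  have h2 := H749.vp_prod (p := p) hp2 (x := (q : ℤ)) (e := d) (by push_cast; exact hd) hx n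
  rw [← h2]
  have h3 : H749.vp p (∏ i ∈ Finset.range n, ((q : ℤ) ^ (i + 1) - 1)) =
      (∏ i ∈ Finset.range n, (q ^ (i + 1) - 1)).factorization p := by
    rw [← H749.vp_natCast]
    congr 1
    rw [Nat.cast_prod]
    refine Finset.prod_congr rfl fun i _ => ?_
    rw [Nat.cast_sub (Nat.one_le_pow _ _ (by omega))]
    push_cast
    rfl
  rw [h3]
  have h4 := congrArg (fun x : ℕ => x.factorization p) h0
  have hg : Nat.gcd n (q - 1) ≠ 0 := fun h => absurd (Nat.gcd_eq_zero_iff.1 h).1 (by omega)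
  have hc : Nat.card (Matrix.ProjectiveSpecialLinearGroup (Fin n) F) ≠ 0 := by
    have : Finite (Matrix.ProjectiveSpecialLinearGroup (Fin n) F) := Quotient.finite _
    exact Nat.card_pos.ne'
  beta_reduce at h4
  rw [Nat.factorization_mul hg (mul_ne_zero (by omega) hc), Finsupp.add_apply,
    Nat.factorization_mul (by omega) hc, Finsupp.add_apply,
    Nat.factorization_mul (pow_ne_zero _ (by omega)) hne, Finsupp.add_apply, Nat.factorization_pow,
    Finsupp.smul_apply, Nat.factorization_eq_zero_of_not_dvd hpq, smul_zero, zero_add] at h4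
  omega

/-- the `p`-part of the order -/
theorem fac_psl_one (h11 : 11 ≤ p) {F : Type*} [Field F] [Fintype F] {n q : ℕ} (hF : Fintype.card F = q) (hn3 : 3 ≤ n)
    (hnp : n < p) (hq : p ∣ q - 1) :
    (Nat.card (Matrix.ProjectiveSpecialLinearGroup (Fin n) F)).factorization p = (q - 1).factorization p * (n - 1) := by
  have hq2 : 2 ≤ q := hF ▸ Fintype.one_lt_card
  have hpq : ¬ p ∣ q := fun h => by
    have h1 := (Nat.dvd_sub h hq)
    rw [show q - (q - 1) = 1 by omega] at h1
    exact hp.out.one_lt.ne' (Nat.dvd_one.1 h1)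
  have hd : orderOf (q : ZMod p) = 1 := by
    rw [orderOf_eq_one_iff]
    have h1 : ((q - 1 : ℕ) : ZMod p) = 0 := (ZMod.natCast_eq_zero_iff _ _).2 hq
    rw [Nat.cast_sub (by omega), Nat.cast_one] at h1
    exact sub_eq_zero.1 h1
  have hn2 : 2 ≤ n := by omega
  have h1 := fac_psl (p := p) (by omega) hF hpq hn2 hd
  rw [Nat.div_one, pow_one, Nat.factorization_factorial_eq_zero_of_lt hnp] at h1
  have h2 : H749.vp p ((q : ℤ) - 1) = (q - 1).factorization p := by
    have h3 : ((q : ℤ) - 1) = ((q - 1 : ℕ) : ℤ) := by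
      rw [Nat.cast_sub (by omega)]
      rfl
    rw [h3, H749.vp_natCast]
  have h3 : (Nat.gcd n (q - 1)).factorization p = 0 := Nat.factorization_eq_zero_of_not_dvd fun h => by
    have := Nat.le_of_dvd (by omega) (h.trans (Nat.gcd_dvd_left _ _))
    omega
  rw [h2, h3, add_zero, add_zero] at h1
  obtain ⟨m, rfl⟩ : ∃ m, n = m + 1 := ⟨n - 1, by omega⟩
  rw [Nat.add_sub_cancel]
  have h4 : (m + 1) * (q - 1).factorization p = (q - 1).factorization p * m + (q - 1).factorization p := by ring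
  omega

/-- **`PSL_n(q)`, `p ∣ q - 1`, `3 ≤ n < p`.** -/
theorem x0_psl_one {S : Type u} [Group S] [Finite S] (h11 : 11 ≤ p) (hM : IsPModular p M) {F : Type*} [Field F] [Fintype F]
    {n q : ℕ} (hF : Fintype.card F = q) (hn3 : 3 ≤ n) (hnp : n < p) (hq : p ∣ q - 1)
    (e : S ≃* Matrix.ProjectiveSpecialLinearGroup (Fin n) F) : p + 1 ≤ x0 p M S := by
  have hq2 : 2 ≤ q := hF ▸ Fintype.one_lt_card
  have hcard := fac_psl_one h11 hF hn3 hnp hq
  set a := (q - 1).factorization p with ha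
  have ha1 : 1 ≤ a := (hp.out.dvd_iff_one_le_factorization (by omega)).1 hq
  have hdu : p ^ a ∣ Nat.card Fˣ := by
    rw [Nat.card_units, Nat.card_eq_fintype_card, hF]
    exact Nat.ordProj_dvd _ _
  obtain ⟨z, hz⟩ := exists_orderOf_of_dvd hdu
  let m : Matrix.SpecialLinearGroup (Fin n) F →* Matrix (Fin n) (Fin n) F :=
    { toFun := fun g => (g : Matrix (Fin n) (Fin n) F)
      map_one' := rfl
      map_mul' := fun _ _ => rfl }
  have hm : Function.Injective m := fun g h hgh => Subtype.ext hgh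
  let pr : Matrix.SpecialLinearGroup (Fin n) F →* S :=
    e.symm.toMonoidHom.comp (QuotientGroup.mk' (Subgroup.center (Matrix.SpecialLinearGroup (Fin n) F)))
  refine x0_of_matrix hM h11 (F := F) ha1 hn3 hnp m hm pr
    (e.symm.surjective.comp (QuotientGroup.mk'_surjective _)) (fun g hg => ?_) (z := (z : F))
    (by rw [orderOf_units, hz]) (fun b hb hb1 => ⟨⟨Matrix.diagonal b, by rw [Matrix.det_diagonal, hb1]⟩, rfl⟩)
    (by rw [Nat.card_congr e.toEquiv, hcard])
  have h1 : (QuotientGroup.mk' (Subgroup.center (Matrix.SpecialLinearGroup (Fin n) F))) g = 1 := by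
    apply e.symm.injective
    rw [map_one]
    exact hg
  rw [QuotientGroup.mk'_apply, QuotientGroup.eq_one_iff] at h1
  obtain ⟨r, -, hr⟩ := Matrix.SpecialLinearGroup.mem_center_iff.1 h1
  exact ⟨r, hr.symm⟩

end Cfsg.Agent.H719.XZ
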