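import Cfsg.Agent.H719.XZ.OneF
import Cfsg.Agent.H719.BD.PsuNum

/-!
# `PSU_n(q)`, `p ∣ q + 1`, `3 ≤ n < p` (helper719, for S4791 + S4927)
-/

set_option autoImplicit false
set_option linter.unusedSectionVars false

namespace Cfsg.Agent.H719.XZ

open Cfsg
open Cfsg.Agent.H674.XZ

universe u

/-- an element of given order of a cyclic group -/
theorem exists_orderOf_of_dvd {G : Type*} [Group G] [Finite G] [IsCyclic G] {N : ℕ} (h : N ∣ Nat.card G) :
    ∃ z : G, orderOf z = N := by
  obtain ⟨g, hg⟩ := IsCyclic.exists_ofOrder_eq_natCard (α := G)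
  refine ⟨g ^ (orderOf g / N), ?_⟩
  exact orderOf_pow_orderOf_div (orderOf_pos g).ne' (by rw [hg]; exact h)

variable {p : ℕ} [hp : Fact p.Prime] {M : Ideal AlgInt}

/-- the `p`-part of the order -/
theorem fac_psu_one (h11 : 11 ≤ p) {F : Type*} [Field F] [Fintype F] {n q : ℕ} (hF : Fintype.card F = q ^ 2) (hn3 : 3 ≤ n)
    (hnp : n < p) (hq : p ∣ q + 1) : (Nat.card (PSU n F q)).factorization p = (q + 1).factorization p * (n - 1) := by
  have hpq : ¬ p ∣ q := fun h => by
    have h1 := (Nat.dvd_add_right h).1 hq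
    exact hp.out.one_lt.ne' (Nat.dvd_one.1 h1)
  have hd : orderOf (-(q : ZMod p)) = 1 := by
    rw [orderOf_eq_one_iff]
    have h1 : ((q + 1 : ℕ) : ZMod p) = 0 := (ZMod.natCast_eq_zero_iff _ _).2 hq
    push_cast at h1
    linear_combination -h1
  have hn2 : 2 ≤ n := by omega
  have h1 := BD.fac_psu (p := p) (by omega) hF hpq hn2 hd
  rw [Nat.div_one, pow_one, Nat.factorization_factorial_eq_zero_of_lt hnp] at h1
  have h2 : H749.vp p (-(q : ℤ) - 1) = (q + 1).factorization p := by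
    have h3 : (-(q : ℤ) - 1) = -((q + 1 : ℕ) : ℤ) := by
      push_cast
      ring
    rw [h3, H749.vp_neg, H749.vp_natCast]
  have h3 : (Nat.gcd n (q + 1)).factorization p = 0 := Nat.factorization_eq_zero_of_not_dvd fun h => by
    have := Nat.le_of_dvd (by omega) (h.trans (Nat.gcd_dvd_left _ _))
    omega
  rw [h2, h3, add_zero, add_zero] at h1
  obtain ⟨m, rfl⟩ : ∃ m, n = m + 1 := ⟨n - 1, by omega⟩
  rw [Nat.add_sub_cancel]
  have h4 : (m + 1) * (q + 1).factorization p = (q + 1).factorization p * m + (q + 1).factorization p := by ring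
  omega

/-- **`PSU_n(q)`, `p ∣ q + 1`, `3 ≤ n < p`.** -/
theorem x0_psu_one {S : Type u} [Group S] [Finite S] (h11 : 11 ≤ p) (hM : IsPModular p M) {F : Type} [Field F] [Fintype F]
    {n q : ℕ} (hF : Fintype.card F = q ^ 2) (hn3 : 3 ≤ n) (hnp : n < p) (hq : p ∣ q + 1) (e : S ≃* PSU n F q) :
    p + 1 ≤ x0 p M S := by
  have hcard := fac_psu_one h11 hF hn3 hnp hq
  set a := (q + 1).factorization p with ha
  have ha1 : 1 ≤ a := (hp.out.dvd_iff_one_le_factorization (by omega)).1 hq
  have hdv : p ^ a ∣ q + 1 := Nat.ordProj_dvd _ _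
  have hdu : p ^ a ∣ Nat.card Fˣ := by
    rw [Nat.card_units, Nat.card_eq_fintype_card, hF]
    refine hdv.trans ⟨q - 1, ?_⟩
    have h1 := Nat.sq_sub_sq q 1
    rwa [one_pow] at h1
  obtain ⟨z, hz⟩ := exists_orderOf_of_dvd hdu
  let m : SU n F q →* Matrix (Fin n) (Fin n) F :=
    { toFun := fun g => ((g : Matrix.SpecialLinearGroup (Fin n) F) : Matrix (Fin n) (Fin n) F)
      map_one' := rfl
      map_mul' := fun _ _ => rfl }
  have hm : Function.Injective m := fun g h hgh => Subtype.ext (Subtype.ext hgh)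
  let pr : SU n F q →* S := e.symm.toMonoidHom.comp (QuotientGroup.mk' (Subgroup.center (SU n F q)))
  refine x0_of_matrix hM h11 (F := F) ha1 hn3 hnp m hm pr
    (e.symm.surjective.comp (QuotientGroup.mk'_surjective _)) (fun g hg => ?_) (z := (z : F))
    (by rw [orderOf_units, hz]) (fun b hb hb1 => ?_) (by rw [Nat.card_congr e.toEquiv, hcard])
  · have h1 : (QuotientGroup.mk' (Subgroup.center (SU n F q))) g = 1 := by
      apply e.symm.injective
      rw [map_one]
      exact hg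
    rw [QuotientGroup.mk'_apply, QuotientGroup.eq_one_iff] at h1
    obtain ⟨r, hr1, hr2, rfl⟩ := (LieClassical.SUBasic.mem_center_SU_iff hF hn3 g).1 h1
    exact ⟨r, LieClassical.SUBasic.coe_suScalar q r hr1 hr2⟩
  · have hb2 : ∀ i, b i ^ (q + 1) = 1 := fun i => by
      obtain ⟨c, hc⟩ := hdv
      rw [hc, pow_mul, hb, one_pow]
    exact ⟨LieClassical.SUBasic.suDiag q b hb1 hb2, LieClassical.SUBasic.coe_suDiag q b hb1 hb2⟩

end Cfsg.Agent.H719.XZ
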