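import Cfsg.Agent.H719.XZ.CycOut
import Cfsg.Agent.H443.XC.Defs

/-!
# `CycOut` of `H443/XC/Defs` (helper719, for S4791 + S4927)
-/

set_option autoImplicit false

open Cfsg Subgroup

namespace Cfsg.Agent.H719.XZ

universe u

theorem cycNat {p : ℕ} {S : Type u} [Group S] [Finite S] (h : CycOut p S) : H443.XC.CycOut p S := by
  intro P A hA hAp
  obtain ⟨γ, hγ, hgen⟩ := h P A hA hAp
  refine ⟨γ, hγ, fun β hβ => ?_⟩
  obtain ⟨k, s, hs⟩ := hgen β hβ
  have hfin : Finite (MulAut S) := inferInstance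
  have hmem : γ ^ k ∈ Submonoid.powers γ := mem_powers_iff_mem_zpowers.2 ⟨k, rfl⟩
  obtain ⟨j, hj⟩ := hmem
  have hj' : γ ^ j = γ ^ k := hj
  refine ⟨j, (γ ^ k) s, fun x hx => ?_⟩
  have h1 := hs x hx
  rw [MulAut.mul_apply] at h1
  have h2 : β x = (γ ^ k) (s * x * s⁻¹) := by
    rw [← h1, MulAut.apply_inv_self]
  rw [h2, map_mul, map_mul, map_inv, hj']

theorem cyc_psu' {p : ℕ} [hp : Fact p.Prime] {S : Type u} [Group S] [Finite S] {r : ℕ} [hr : Fact r.Prime] (hrp : r ≠ p)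
    (h5 : 5 ≤ p) (h : IsPSUChar r S) : H443.XC.CycOut p S := cycNat (cyc_psu hrp h5 h)

end Cfsg.Agent.H719.XZ
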