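import Cfsg.Agent.H26.XZ.Gal

/-!
# Abelian Sylow subgroups in a split torus of type `A` (helper719, for S4791 + S4927)

`P` the diagonal `p`-subgroup of `PSL_n(q)`, `p ∣ q - 1`, or `PSU_n(q)`, `p ∣ q + 1`, `3 ≤ n < p`. The power sums of degree `2`
and `3` in the elements `diag(a^(n-1), a⁻¹, …)` give two invariant forms of degree `p - 2`, so `2 (p - 1)` members of `X₀`.
-/

set_option autoImplicit false
set_option linter.unusedSectionVars false

namespace Cfsg.Agent.H719.XZ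

open Cfsg
open Cfsg.Agent.H674.XZ Cfsg.Agent.H603.AP Cfsg.Agent.H26.XZ

universe u

section forms

variable {p : ℕ} [hp : Fact p.Prime] {S : Type u} [Group S] [Finite S] {P : Sylow p S} {n : ℕ}

/-- the power sums -/
def ps (x : Fin n → P) (k : ℕ) (l : LL p P) : ZMod p := ∑ i, ev l (x i) ^ k

theorem ps_mem (x : Fin n → P) (k : ℕ) : ps x k ∈ Pol p P k := by
  have h1 : ps x k = ∑ i, (fun l : LL p P => ev l (x i)) ^ k := by
    funext l
    rw [Finset.sum_apply]
    rfl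
  rw [h1]
  refine Submodule.sum_mem _ fun i _ => ?_
  have h2 := Pol_pow (ev_mem (p := p) (x i)) k
  rwa [mul_one] at h2

theorem ps_winv (x : Fin n → P) (h : ∀ g ∈ Subgroup.normalizer ((P : Subgroup S) : Set S), ∃ σ : Equiv.Perm (Fin n),
    ∀ i, g * (x i : S) * g⁻¹ = x (σ i)) (k : ℕ) : WInv P (ps x k) := by
  intro g hg l l' hl
  obtain ⟨σ, hσ⟩ := h g hg
  unfold ps
  rw [← Equiv.sum_comp σ]
  exact Finset.sum_congr rfl fun i _ => by rw [hl (x i) (x (σ i)) (hσ i)]

theorem winv_mul {f g : LL p P → ZMod p} (hf : WInv P f) (hg : WInv P g) : WInv P (f * g) := by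
  intro n hn l l' hl
  rw [Pi.mul_apply, Pi.mul_apply, hf n hn l l' hl, hg n hn l l' hl]

theorem winv_pow {f : LL p P → ZMod p} (hf : WInv P f) (i : ℕ) : WInv P (f ^ i) := by
  intro n hn l l' hl
  rw [Pi.pow_apply, Pi.pow_apply, hf n hn l l' hl]

variable {M : Ideal AlgInt}

/-- forms of degrees `2` and `3` -/
theorem nr_ge_of_pts (hM : IsPModular p M) (hpG : p ∣ Nat.card S) (hab : ∀ x ∈ P, ∀ y ∈ P, x * y = y * x) (h11 : 11 ≤ p)
    {f g : LL p P → ZMod p} (hf : f ∈ Pol p P 2) (hg : g ∈ Pol p P 3) (wf : WInv P f) (wg : WInv P g) (l₁ l₂ : LL p P)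
    (h1 : f l₁ ≠ 0) (h2 : g l₁ ≠ 0) (h3 : f l₂ ≠ 0) (h4 : g l₂ ≠ 0) (h5 : f l₁ ^ 3 * g l₂ ^ 2 ≠ f l₂ ^ 3 * g l₁ ^ 2) :
    2 * (p - 1) ≤ H508.XR.nr p M S := by
  obtain ⟨k, hk⟩ := hp.out.odd_of_ne_two (by omega)
  obtain ⟨j, rfl⟩ : ∃ j, k = j + 5 := ⟨k - 5, by omega⟩
  -- `p = 2 j + 11`; the degree is `2 j + 9`
  have ha : f ^ (j + 3) * g ∈ Pol p P (2 * j + 9) := by
    have h := Pol_mul (Pol_pow hf (j + 3)) hg
    rwa [show (j + 3) * 2 + 3 = 2 * j + 9 by ring] at h
  have hb : f ^ j * g ^ 3 ∈ Pol p P (2 * j + 9) := by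
    have h := Pol_mul (Pol_pow hf j) (Pol_pow hg 3)
    rwa [show j * 2 + 3 * 3 = 2 * j + 9 by ring] at h
  have hli : LinearIndependent (ZMod p) ![f ^ (j + 3) * g, f ^ j * g ^ 3] := by
    rw [LinearIndependent.pair_iff]
    intro s t hst
    have key : ∀ l, f l ≠ 0 → g l ≠ 0 → s * f l ^ 3 + t * g l ^ 2 = 0 := by
      intro l hfl hgl
      have h := congrFun hst l
      simp only [Pi.add_apply, Pi.smul_apply, Pi.mul_apply, Pi.pow_apply, smul_eq_mul, Pi.zero_apply] at h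
      have h' : (f l ^ j * g l) * (s * f l ^ 3 + t * g l ^ 2) = 0 := by
        rw [← h]
        ring
      rcases mul_eq_zero.1 h' with h0 | h0
      · exact absurd h0 (mul_ne_zero (pow_ne_zero _ hfl) hgl)
      · exact h0
    have e1 := key l₁ h1 h2
    have e2 := key l₂ h3 h4
    have hs : s * (f l₁ ^ 3 * g l₂ ^ 2 - f l₂ ^ 3 * g l₁ ^ 2) = 0 := by linear_combination g l₂ ^ 2 * e1 - g l₁ ^ 2 * e2
    have hs0 : s = 0 := by
      rcases mul_eq_zero.1 hs with h | h
      · exact h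
      · exact absurd (sub_eq_zero.1 h) h5
    refine ⟨hs0, ?_⟩
    rw [hs0, zero_mul, zero_add] at e1
    rcases mul_eq_zero.1 e1 with h | h
    · exact h
    · exact absurd h (pow_ne_zero _ h2)
  have h := gal_nr_two hM hpG hab (D := 2 * j + 9) (by omega) (by omega) hli ha hb
    (winv_mul (winv_pow wf _) wg) (winv_mul (winv_pow wf _) (winv_pow wg _))
  have hgcd : Nat.gcd (2 * j + 9) (p - 1) = 1 := by
    have h6 : p - 1 = 2 * j + 9 + 1 := by omega
    rw [h6]
    simp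
  rw [hgcd, Nat.div_one] at h
  exact h

end forms

/-! ### the torus -/

/-- exponents of sum zero -/
def QQ (n N : ℕ) : AddSubgroup (Fin n → ZMod N) where
  carrier := {a | ∑ i, a i = 0}
  zero_mem' := by simp
  add_mem' {a b} ha hb := by
    change ∑ i, (a i + b i) = 0
    rw [Finset.sum_add_distrib, show ∑ i, a i = 0 from ha, show ∑ i, b i = 0 from hb, add_zero]
  neg_mem' {a} ha := by
    change ∑ i, (-(a i)) = 0
    rw [Finset.sum_neg_distrib, show ∑ i, a i = 0 from ha, neg_zero]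

theorem mem_QQ {n N : ℕ} {a : Fin n → ZMod N} : a ∈ QQ n N ↔ ∑ i, a i = 0 := Iff.rfl

theorem card_QQ {n N : ℕ} [NeZero N] (hn : 1 ≤ n) : Nat.card (QQ n N) = N ^ (n - 1) := by
  let s : (Fin n → ZMod N) →+ ZMod N := ∑ i, Pi.evalAddMonoidHom (fun _ : Fin n => ZMod N) i
  have hs : ∀ a, s a = ∑ i, a i := fun a => by
    rw [AddMonoidHom.finsetSum_apply]
    rfl
  have hk : QQ n N = s.ker := by
    ext a
    rw [mem_QQ, AddMonoidHom.mem_ker, hs]
  have hsurj : s.range = ⊤ := by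
    rw [AddMonoidHom.range_eq_top]
    intro z
    refine ⟨Pi.single ⟨0, hn⟩ z, ?_⟩
    rw [hs]
    simp
  have h1 := AddSubgroup.card_mul_index s.ker
  rw [AddSubgroup.index_ker, hsurj, ← hk] at h1
  have h2 : Nat.card (⊤ : AddSubgroup (ZMod N)) = N := by
    rw [Nat.card_congr AddSubgroup.topEquiv.toEquiv, Nat.card_zmod]
  rw [h2, Nat.card_fun, Nat.card_zmod, Nat.card_eq_fintype_card (α := Fin n), Fintype.card_fin] at h1
  have h3 : N ^ n = N ^ (n - 1) * N := by
    rw [← pow_succ, Nat.sub_add_cancel hn]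
  rw [h3] at h1
  exact Nat.eq_of_mul_eq_mul_right (NeZero.pos N) h1

section torus

variable {p : ℕ} [hp : Fact p.Prime] {S : Type u} [Group S] [Finite S] {M : Ideal AlgInt}

/-- **The torus.** -/
theorem x0_of_torus (hM : IsPModular p M) (h11 : 11 ≤ p) {n a : ℕ} (ha : 1 ≤ a) (hn3 : 3 ≤ n) (hnp : n < p)
    (δ : Multiplicative (QQ n (p ^ a)) →* S) (hδ : Function.Injective δ)
    (hcard : (Nat.card S).factorization p = a * (n - 1))
    (hN : ∀ g : S, (∀ x, ∃ y, g * δ x * g⁻¹ = δ y) → ∃ σ : Equiv.Perm (Fin n), ∀ x y, g * δ x * g⁻¹ = δ y →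
      ∀ i, (Multiplicative.toAdd y).1 (σ i) = (Multiplicative.toAdd x).1 i) : p + 1 ≤ x0 p M S := by
  classical
  have : NeZero (p ^ a) := ⟨pow_ne_zero _ hp.out.ne_zero⟩
  have hcr : Nat.card δ.range = p ^ (Nat.card S).factorization p := by
    rw [← Nat.card_congr (MonoidHom.ofInjective hδ).toEquiv, Nat.card_congr Multiplicative.toAdd, card_QQ (by omega), hcard,
      ← pow_mul]
  let P : Sylow p S := Sylow.ofCard δ.range hcr
  have hP : (P : Subgroup S) = δ.range := rfl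
  have hmem : ∀ x, δ x ∈ (P : Subgroup S) := fun x => ⟨x, rfl⟩
  have hab : ∀ x ∈ P, ∀ y ∈ P, x * y = y * x := by
    rintro _ ⟨x, rfl⟩ _ ⟨y, rfl⟩
    rw [← map_mul, ← map_mul, mul_comm]
  have hpS : p ∣ Nat.card S := by
    by_contra hcon
    rw [Nat.factorization_eq_zero_of_not_dvd hcon] at hcard
    have : 1 ≤ a * (n - 1) := Nat.mul_pos ha (by omega)
    omega
  -- the elements
  have hxQ : ∀ i : Fin n, (fun j => (if i = j then (n : ZMod (p ^ a)) else 0) - 1 : Fin n → ZMod (p ^ a)) ∈ QQ n (p ^ a) := by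
    intro i
    rw [mem_QQ, Finset.sum_sub_distrib, Finset.sum_ite_eq, if_pos (Finset.mem_univ _)]
    simp
  let xq : Fin n → QQ n (p ^ a) := fun i => ⟨_, hxQ i⟩
  have hxq : ∀ i j, (xq i).1 j = (if i = j then (n : ZMod (p ^ a)) else 0) - 1 := fun i j => rfl
  let x : Fin n → P := fun i => ⟨δ (Multiplicative.ofAdd (xq i)), hmem _⟩
  have hperm : ∀ g ∈ Subgroup.normalizer ((P : Subgroup S) : Set S), ∃ σ : Equiv.Perm (Fin n),
      ∀ i, g * (x i : S) * g⁻¹ = x (σ i) := by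
    intro g hg
    have h1 : ∀ x, ∃ y, g * δ x * g⁻¹ = δ y := by
      intro z
      obtain ⟨y, hy⟩ := (Subgroup.mem_normalizer_iff.1 hg (δ z)).1 (hmem z)
      exact ⟨y, hy.symm⟩
    obtain ⟨σ, hσ⟩ := hN g h1
    refine ⟨σ, fun i => ?_⟩
    obtain ⟨y, hy⟩ := h1 (Multiplicative.ofAdd (xq i))
    change g * δ (Multiplicative.ofAdd (xq i)) * g⁻¹ = δ (Multiplicative.ofAdd (xq (σ i)))
    rw [hy]
    congr 1
    apply Multiplicative.toAdd.injective
    apply Subtype.ext
    funext j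
    obtain ⟨k, rfl⟩ := σ.surjective j
    have h2 := hσ _ _ hy k
    rw [h2]
    change (xq i).1 k = (xq (σ i)).1 (σ k)
    rw [hxq, hxq]
    simp only [EmbeddingLike.apply_eq_iff_eq]
  -- the characters
  have hdvd : p ∣ p ^ a := dvd_pow_self p (by omega)
  let e : δ.range ≃* Multiplicative (QQ n (p ^ a)) := (MonoidHom.ofInjective hδ).symm
  have he : ∀ z, e ⟨δ z, ⟨z, rfl⟩⟩ = z := fun z => (MonoidHom.ofInjective hδ).symm_apply_apply z
  let L : (Fin n → ZMod p) → LL p P := fun w =>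
    (AddMonoidHom.toMultiplicative (AddMonoidHom.mk' (fun q : QQ n (p ^ a) => ∑ j, w j * ZMod.castHom hdvd (ZMod p) (q.1 j))
      (fun q q' => by
        rw [← Finset.sum_add_distrib]
        refine Finset.sum_congr rfl fun j _ => ?_
        change w j * ZMod.castHom hdvd (ZMod p) (q.1 j + q'.1 j) = _
        rw [map_add, mul_add]))).comp e.toMonoidHom
  have hev : ∀ w i, ev (L w) (x i) = n * w i - ∑ j, w j := by
    intro w i
    have h1 : ev (L w) (x i) = ∑ j, w j * ZMod.castHom hdvd (ZMod p) ((Multiplicative.toAdd (e ⟨δ (Multiplicative.ofAdd (xq i)),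
      ⟨_, rfl⟩⟩)).1 j) := rfl
    rw [h1, he]
    change ∑ j, w j * ZMod.castHom hdvd (ZMod p) ((xq i).1 j) = _
    simp only [hxq, map_sub, map_one, mul_sub, mul_one, Finset.sum_sub_distrib]
    congr 1
    rw [Finset.sum_eq_single i]
    · rw [if_pos rfl, map_natCast, mul_comm]
    · intro j _ hj
      rw [if_neg (Ne.symm hj), map_zero, mul_zero]
    · intro h
      exact absurd (Finset.mem_univ _) h
  obtain ⟨m, rfl⟩ : ∃ m, n = m + 3 := ⟨n - 3, by omega⟩
  let W : ZMod p → ZMod p → ZMod p → Fin (m + 3) → ZMod p := fun a b c =>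
    Fin.cons a (Fin.cons b (Fin.cons c (fun _ => 0)))
  have hps : ∀ (a b c : ZMod p) (k : ℕ), k ≠ 0 → a + b + c = 0 →
      ps x k (L (W a b c)) = ((m + 3 : ℕ) : ZMod p) ^ k * (a ^ k + b ^ k + c ^ k) := by
    intro a b c k hk hs
    unfold ps
    have h1 : ∑ j, W a b c j = 0 := by
      simp only [W, Fin.sum_univ_succ, Fin.cons_zero, Fin.cons_succ, Finset.sum_const_zero, add_zero]
      rw [← hs]
      ring
    simp only [hev, h1, sub_zero, mul_pow]
    rw [← Finset.mul_sum]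
    congr 1
    simp only [W, Fin.sum_univ_succ, Fin.cons_zero, Fin.cons_succ, zero_pow hk, Finset.sum_const_zero, add_zero]
    ring
  have hnat : ∀ k : ℕ, 0 < k → k < p → ((k : ℕ) : ZMod p) ≠ 0 := by
    intro k h1 h2 h
    rw [ZMod.natCast_eq_zero_iff] at h
    exact absurd (Nat.le_of_dvd h1 h) (by omega)
  have h2 : (2 : ZMod p) ≠ 0 := by exact_mod_cast hnat 2 (by omega) (by omega)
  have h3 : (3 : ZMod p) ≠ 0 := by exact_mod_cast hnat 3 (by omega) (by omega)
  have h5 : (5 : ZMod p) ≠ 0 := by exact_mod_cast hnat 5 (by omega) (by omega)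
  have h7 : (7 : ZMod p) ≠ 0 := by exact_mod_cast hnat 7 (by omega) (by omega)
  have hn0 : ((m + 3 : ℕ) : ZMod p) ≠ 0 := hnat _ (by omega) hnp
  set N := ((m + 3 : ℕ) : ZMod p) with hNdef
  have a2 : ps x 2 (L (W 1 1 (-2))) = N ^ 2 * (2 * 3) := by
    rw [hps _ _ _ _ (by norm_num) (by ring)]
    ring
  have a3 : ps x 3 (L (W 1 1 (-2))) = N ^ 3 * -(2 * 3) := by
    rw [hps _ _ _ _ (by norm_num) (by ring)]
    ring
  have b2 : ps x 2 (L (W 1 2 (-3))) = N ^ 2 * (2 * 7) := by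
    rw [hps _ _ _ _ (by norm_num) (by ring)]
    ring
  have b3 : ps x 3 (L (W 1 2 (-3))) = N ^ 3 * -(2 * 3 ^ 2) := by
    rw [hps _ _ _ _ (by norm_num) (by ring)]
    ring
  have hfin := nr_ge_of_pts (P := P) hM hpS hab h11 (ps_mem x 2) (ps_mem x 3) (ps_winv x hperm 2) (ps_winv x hperm 3)
    (L (W 1 1 (-2))) (L (W 1 2 (-3)))
    (by rw [a2]; exact mul_ne_zero (pow_ne_zero _ hn0) (mul_ne_zero h2 h3))
    (by rw [a3]; exact mul_ne_zero (pow_ne_zero _ hn0) (neg_ne_zero.2 (mul_ne_zero h2 h3)))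
    (by rw [b2]; exact mul_ne_zero (pow_ne_zero _ hn0) (mul_ne_zero h2 h7))
    (by rw [b3]; exact mul_ne_zero (pow_ne_zero _ hn0) (neg_ne_zero.2 (mul_ne_zero h2 (pow_ne_zero _ h3))))
    (by
      rw [a2, a3, b2, b3]
      intro h
      have h' : N ^ 12 * (2 ^ 7 * 3 ^ 2 * 5 ^ 2) = 0 := by linear_combination -h
      exact mul_ne_zero (pow_ne_zero _ hn0) (mul_ne_zero (mul_ne_zero (pow_ne_zero _ h2) (pow_ne_zero _ h3))
        (pow_ne_zero _ h5)) h')
  rw [x0_eq_rr_add_nr (p := p) (M := M) (G := S)]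
  omega

/-! ### matrices -/

/-- a nonzero term of the determinant -/
theorem exists_perm {F : Type*} [Field F] {n : ℕ} (C : Matrix (Fin n) (Fin n) F) (hC : C.det ≠ 0) :
    ∃ σ : Equiv.Perm (Fin n), ∀ i, C (σ i) i ≠ 0 := by
  rw [Matrix.det_apply'] at hC
  obtain ⟨σ, -, hσ⟩ := Finset.exists_ne_zero_of_sum_ne_zero hC
  refine ⟨σ, fun i hi => hσ (mul_eq_zero_of_right _ (Finset.prod_eq_zero (Finset.mem_univ i) hi))⟩

/-- **Matrix groups.** -/
theorem x0_of_matrix (hM : IsPModular p M) (h11 : 11 ≤ p) {F : Type*} [Field F] {n a : ℕ} (ha : 1 ≤ a) (hn3 : 3 ≤ n)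
    (hnp : n < p) {H : Type*} [Group H] (m : H →* Matrix (Fin n) (Fin n) F) (hm : Function.Injective m) (pr : H →* S)
    (hpr : Function.Surjective pr) (hker : ∀ h, pr h = 1 → ∃ c : F, m h = Matrix.diagonal fun _ => c) {z : F}
    (hz : orderOf z = p ^ a)
    (hδ : ∀ b : Fin n → F, (∀ i, b i ^ p ^ a = 1) → ∏ i, b i = 1 → ∃ h : H, m h = Matrix.diagonal b)
    (hcard : (Nat.card S).factorization p = a * (n - 1)) : p + 1 ≤ x0 p M S := by
  classical
  have hN0 : 0 < p ^ a := pow_pos hp.out.pos a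
  have : NeZero (p ^ a) := ⟨hN0.ne'⟩
  have hcop : Nat.Coprime n (p ^ a) :=
    Nat.Coprime.pow_right _ ((Nat.Prime.coprime_iff_not_dvd hp.out).2 fun h => by
      have := Nat.le_of_dvd (by omega) h
      omega).symm
  have hz0 : z ≠ 0 := by
    rintro rfl
    rw [orderOf_zero] at hz
    omega
  have hzN : z ^ p ^ a = 1 := by rw [← hz, pow_orderOf_eq_one]
  have hzmod : ∀ k : ℕ, z ^ (k % p ^ a) = z ^ k := fun k => by rw [← hz, pow_mod_orderOf]
  have hzeq : ∀ k l : ℕ, z ^ k = z ^ l → k ≡ l [MOD p ^ a] := fun k l h => by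
    rw [← hz]
    exact (IsOfFinOrder.pow_eq_pow_iff_modEq (isOfFinOrder_iff_pow_eq_one.2 ⟨p ^ a, hN0, hzN⟩)).1 h
  -- the exponential
  let E : ZMod (p ^ a) → F := fun t => z ^ t.val
  have hE1 : ∀ t : ZMod (p ^ a), E t ^ p ^ a = 1 := fun t => by
    change (z ^ t.val) ^ p ^ a = 1
    rw [← pow_mul, mul_comm, pow_mul, hzN, one_pow]
  have hEadd : ∀ s t : ZMod (p ^ a), E (s + t) = E s * E t := fun s t => by
    change z ^ (s + t).val = z ^ s.val * z ^ t.val
    rw [← pow_add, ZMod.val_add, hzmod]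
  have hE0 : E 0 = 1 := by
    change z ^ (0 : ZMod (p ^ a)).val = 1
    rw [ZMod.val_zero, pow_zero]
  have hEinj : Function.Injective E := by
    intro s t h
    have h1 : s.val ≡ t.val [MOD p ^ a] := hzeq _ _ h
    have h2 := Nat.ModEq.eq_of_lt_of_lt h1 (ZMod.val_lt s) (ZMod.val_lt t)
    exact ZMod.val_injective _ h2
  have hEsum : ∀ q : Fin n → ZMod (p ^ a), ∏ i, E (q i) = E (∑ i, q i) := by
    intro q
    have h1 : ∀ s : Finset (Fin n), ∏ i ∈ s, E (q i) = E (∑ i ∈ s, q i) := by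
      intro s
      induction s using Finset.induction_on with
      | empty => rw [Finset.prod_empty, Finset.sum_empty, hE0]
      | insert i s hi ih => rw [Finset.prod_insert hi, Finset.sum_insert hi, hEadd, ih]
    exact h1 _
  have hex : ∀ q : Multiplicative (QQ n (p ^ a)), ∃ h : H, m h = Matrix.diagonal fun i => E ((Multiplicative.toAdd q).1 i) := by
    intro q
    refine hδ _ (fun i => hE1 _) ?_
    rw [hEsum, mem_QQ.1 (Multiplicative.toAdd q).2, hE0]
  choose D hD using hex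
  let D' : Multiplicative (QQ n (p ^ a)) →* H := MonoidHom.mk' D fun x y => hm (by
    rw [map_mul, hD, hD, hD, Matrix.diagonal_mul_diagonal]
    congr 1
    funext i
    rw [← hEadd]
    rfl)
  have hD' : ∀ q, m (D' q) = Matrix.diagonal fun i => E ((Multiplicative.toAdd q).1 i) := hD
  refine x0_of_torus hM h11 ha hn3 hnp (pr.comp D') ?_ hcard ?_
  · -- injective
    rw [injective_iff_map_eq_one]
    intro q hq
    obtain ⟨c, hc⟩ := hker _ hq
    rw [hD'] at hc
    have h1 := Matrix.diagonal_injective hc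
    have h2 : ∀ i, (Multiplicative.toAdd q).1 i = (Multiplicative.toAdd q).1 ⟨0, by omega⟩ := fun i =>
      hEinj ((congrFun h1 i).trans (congrFun h1 _).symm)
    have h3 := mem_QQ.1 (Multiplicative.toAdd q).2
    rw [Finset.sum_congr rfl (fun i _ => h2 i), Finset.sum_const, Finset.card_univ, Fintype.card_fin, nsmul_eq_mul] at h3
    have h4 : IsUnit ((n : ℕ) : ZMod (p ^ a)) := (ZMod.isUnit_iff_coprime _ _).2 hcop
    have h5 : (Multiplicative.toAdd q).1 ⟨0, by omega⟩ = 0 := (h4.mul_right_eq_zero).1 h3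
    apply Multiplicative.toAdd.injective
    apply Subtype.ext
    funext i
    rw [h2 i, h5]
    rfl
  · intro g _
    obtain ⟨h, rfl⟩ := hpr g
    have hdet : (m h).det ≠ 0 := by
      have h1 : m h * m h⁻¹ = 1 := by rw [← map_mul, mul_inv_cancel, map_one]
      have h2 := congrArg Matrix.det h1
      rw [Matrix.det_mul, Matrix.det_one] at h2
      exact left_ne_zero_of_mul_eq_one h2
    obtain ⟨σ, hσ⟩ := exists_perm (m h) hdet
    refine ⟨σ, fun x y hxy => ?_⟩
    have h1 : pr ((h * D' x * h⁻¹) * (D' y)⁻¹) = 1 := by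
      rw [map_mul, map_mul, map_mul, map_inv, map_inv]
      change pr h * (pr.comp D') x * (pr h)⁻¹ * ((pr.comp D') y)⁻¹ = 1
      rw [hxy, mul_inv_cancel]
    obtain ⟨c, hc⟩ := hker _ h1
    have h2 : m h * m (D' x) = (Matrix.diagonal fun _ => c) * m (D' y) * m h := by
      rw [← hc, ← map_mul, ← map_mul, ← map_mul]
      congr 1
      group
    rw [hD', hD', Matrix.diagonal_mul_diagonal] at h2
    have h3 : ∀ i, E ((Multiplicative.toAdd x).1 i) = c * E ((Multiplicative.toAdd y).1 (σ i)) := by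
      intro i
      have h4 := congrFun (congrFun h2 (σ i)) i
      rw [Matrix.mul_diagonal, Matrix.diagonal_mul, mul_comm] at h4
      exact mul_right_cancel₀ (hσ i) h4
    have h4 : c ^ n = 1 := by
      have h5 : ∏ i, E ((Multiplicative.toAdd x).1 i) = c ^ n * ∏ i, E ((Multiplicative.toAdd y).1 (σ i)) := by
        rw [Finset.prod_congr rfl (fun i _ => h3 i), Finset.prod_mul_distrib, Finset.prod_const, Finset.card_univ,
          Fintype.card_fin]
      rw [Equiv.prod_comp σ (fun i => E ((Multiplicative.toAdd y).1 i)), hEsum, hEsum,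
        mem_QQ.1 (Multiplicative.toAdd x).2, mem_QQ.1 (Multiplicative.toAdd y).2, hE0, mul_one] at h5
      exact h5.symm
    have h5 : c ^ p ^ a = 1 := by
      have h6 := hE1 ((Multiplicative.toAdd x).1 ⟨0, by omega⟩)
      rw [h3 ⟨0, by omega⟩, mul_pow, hE1, mul_one] at h6
      exact h6
    have h6 : c = 1 := by
      rw [← orderOf_eq_one_iff]
      exact Nat.eq_one_of_dvd_coprimes hcop (orderOf_dvd_of_pow_eq_one h4) (orderOf_dvd_of_pow_eq_one h5)
    intro i
    have h7 := h3 i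
    rw [h6, one_mul] at h7
    exact (hEinj h7).symm

end torus

end Cfsg.Agent.H719.XZ
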