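import Cfsg.Agent.H719.XZ.RowPSU
import Cfsg.Agent.H624.XZ.Trans

/-!
# S4791 + S4927, the row `PSU_n(q)`, from `p + 1 ≤ x₀(GU_n(q))` for `ord_p(-q) ≥ 2` (helper719)
-/

set_option autoImplicit false
set_option linter.unusedSectionVars false

open Cfsg Subgroup

namespace Cfsg.Agent.H719.XZ

open Cfsg.Agent.H674.XZ Cfsg.Agent.H668.XZ Cfsg.Agent.H508.KB

universe u

/-- **The row `PSU_n(q)`.** -/
theorem row_psu_of {p : ℕ} [hp : Fact p.Prime] {M : Ideal AlgInt} (h11 : 11 ≤ p) (hM : IsPModular p M) {r : ℕ}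
    [hr : Fact r.Prime] (hrp : r ≠ p) {S : Type u} [Group S] [Finite S] (h : IsPSUChar r S)
    (hP : ∀ P : Sylow p S, ¬ IsCyclic (P : Subgroup S))
    (hgu : ∀ (F : Type) [Field F] [Fintype F] (n q : ℕ), Fintype.card F = q ^ 2 → (p : F) ≠ 0 →
      2 ≤ orderOf (-(q : ZMod p)) → 2 * orderOf (-(q : ZMod p)) ≤ n → p + 1 ≤ x0 p M (GU n F q)) : Row0 p M S := by
  have hab : AbOut p S := H107.AutU.ab_psu hrp (by omega) h
  obtain ⟨F, iF, iF', iC, n, q, hF, hn3, h32, ⟨e⟩⟩ := h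
  have hpS : p ∣ Nat.card S := by
    by_contra hd
    obtain ⟨P⟩ : Nonempty (Sylow p S) := inferInstance
    refine hP P ?_
    have h1 : Nat.card (P : Subgroup S) = 1 := by
      rw [P.card_eq_multiplicity, Nat.factorization_eq_zero_of_not_dvd hd, pow_zero]
    have h2 : Subsingleton (P : Subgroup S) := (Nat.card_eq_one_iff_unique.1 h1).1
    infer_instance
  have hpq : ¬ p ∣ q := not_dvd_q hrp hF
  have h2 := two_mul_le hF hn3 hpq e hP
  by_cases h1 : orderOf (-(q : ZMod p)) = 1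
  · exact row_ell hrp h11 hM hpS hF hn3 h32 e h1 odd_one (by omega) fun c _ h _ => absurd rfl h
  · have h0 := ord_pos hpq
    have hpF : (p : F) ≠ 0 := by
      intro h0
      rw [CharP.cast_eq_zero_iff F r p] at h0
      exact hrp ((Nat.prime_dvd_prime_iff_eq hr.out hp.out).1 h0)
    have h3 := hgu F n q hF hpF (by omega) h2
    rw [H624.XZ.x0_gu hM (by omega) hF hn3 hpF (fun h => h1 (ord_eq_one_iff.2 h)) ⟨e⟩] at h3
    exact H364.XR.row_of_ab hM hab h3

end Cfsg.Agent.H719.XZ
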