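import Cfsg.Agent.H719.XZ.RowPSUL
import Cfsg.Agent.H794.XZ.X0

/-!
# S4791 + S4927, the row `PSU_n(q)` in cross characteristic (helper719)
-/

set_option autoImplicit false

open Cfsg Subgroup

namespace Cfsg.Agent.H719.XZ

universe u

/-- **The row `PSU_n(q)`.** -/
theorem row_psu {p : ℕ} [Fact p.Prime] {M : Ideal AlgInt} (h11 : 11 ≤ p) (hM : IsPModular p M) {r : ℕ}
    [Fact r.Prime] (hrp : r ≠ p) {S : Type u} [Group S] [Finite S] (h : IsPSUChar r S)
    (hP : ∀ P : Sylow p S, ¬ IsCyclic (P : Subgroup S)) : Cfsg.Agent.H668.XZ.Row0 p M S := by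
  refine row_psu_of h11 hM hrp h hP fun F _ _ n q hF hpF h2 hn => ?_
  have e : ((-(q : ℤ) : ℤ) : ZMod p) = -(q : ZMod p) := by push_cast; rfl
  exact Cfsg.Agent.H794.XZ.x0_gu_ge hM hF hpF (by rw [e]; exact h2) (by rw [e]; exact hn)

end Cfsg.Agent.H719.XZ
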